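import Mathlib.RingTheory.Spectrum.Prime.FreeLocus
import Mathlib.RingTheory.LocalProperties.FinitePresentation
import Mathlib.RingTheory.LocalProperties.Exactness
import Mathlib.RingTheory.Support
import Mathlib.RingTheory.Nakayama

/-!
# Finite flat modules and their rank function

A finite flat module has upper semicontinuous rank and is projective iff the rank is locally
constant.
-/

universe u

open Module TensorProduct

namespace Groth.Agent.Lib.FlatFinite

set_option linter.style.haveILetI false

variable {A : Type u} [CommRing A] {M : Type u} [AddCommGroup M] [Module A M] [Module.Finite A M]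
  [Module.Flat A M]

attribute [local instance] Module.free_of_flat_of_isLocalRing

/-- Near `p` the module is generated by `rank p` elements. -/
theorem exists_surjective (p : PrimeSpectrum A) :
    ∃ f : A, f ∉ p.asIdeal ∧ ∃ π : (Fin (rankAtStalk M p) → Localization.Away f) →ₗ[Localization.Away f]
      LocalizedModule (.powers f) M, Function.Surjective π := by
  let Ap := Localization.AtPrime p.asIdeal
  let Mp := LocalizedModule p.asIdeal.primeCompl M
  haveI : Module.Finite Ap Mp :=
    Module.Finite.of_isLocalizedModule p.asIdeal.primeCompl (LocalizedModule.mkLinearMap p.asIdeal.primeCompl M)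
  haveI : Module.Flat Ap Mp :=
    Module.Flat.isBaseChange A Ap M Mp (IsLocalizedModule.isBaseChange p.asIdeal.primeCompl Ap
      (LocalizedModule.mkLinearMap p.asIdeal.primeCompl M))
  let b := Module.finBasis Ap Mp
  have hb : ∀ i, ∃ (m : M) (s : p.asIdeal.primeCompl),
      s • b i = LocalizedModule.mkLinearMap p.asIdeal.primeCompl M m := fun i => by
    obtain ⟨⟨m, s⟩, h⟩ := IsLocalizedModule.surj p.asIdeal.primeCompl
      (LocalizedModule.mkLinearMap p.asIdeal.primeCompl M) (b i)
    exact ⟨m, s, h⟩
  choose m s hms using hb
  let π₀ : (Fin (finrank Ap Mp) → A) →ₗ[A] M := Fintype.linearCombination A m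
  let C := M ⧸ LinearMap.range π₀
  have hp : p ∉ Module.support A C := by
    rw [Module.notMem_support_iff']
    intro c
    obtain ⟨x, rfl⟩ := Submodule.mkQ_surjective _ c
    let g := LocalizedModule.mkLinearMap p.asIdeal.primeCompl M
    suffices h : ∀ y ∈ Submodule.span Ap (Set.range b),
        ∃ r : A, r ∉ p.asIdeal ∧ ∃ z ∈ LinearMap.range π₀, r • y = g z by
      obtain ⟨r, hr, z, hz, he⟩ := h (g x) (b.span_eq.ge Submodule.mem_top)
      rw [← map_smul] at he
      obtain ⟨t, ht⟩ := IsLocalizedModule.exists_of_eq (S := p.asIdeal.primeCompl) he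
      refine ⟨t * r, fun htr => (p.2.mem_or_mem htr).elim t.2 hr, (Submodule.Quotient.mk_eq_zero _).mpr ?_⟩
      show ((t : A) * r) • x ∈ LinearMap.range π₀
      rw [mul_smul, ← Submonoid.smul_def, ht]
      exact Submodule.smul_mem _ _ hz
    intro y hy
    induction hy using Submodule.span_induction with
    | mem y hy =>
      obtain ⟨i, rfl⟩ := hy
      refine ⟨s i, (s i).2, m i, ⟨Pi.single i 1, ?_⟩, hms i⟩
      simp [π₀, Fintype.linearCombination_apply_single]
    | zero => exact ⟨1, p.asIdeal.primeCompl.one_mem, 0, zero_mem _, by simp⟩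
    | add y y' _ _ hy hy' =>
      obtain ⟨r, hr, z, hz, he⟩ := hy
      obtain ⟨r', hr', z', hz', he'⟩ := hy'
      refine ⟨r * r', fun h => (p.2.mem_or_mem h).elim hr hr', r' • z + r • z',
        add_mem (Submodule.smul_mem _ _ hz) (Submodule.smul_mem _ _ hz'), ?_⟩
      rw [smul_add, map_add, map_smul, map_smul, ← he, ← he', smul_smul, smul_smul, mul_comm r' r]
    | smul a y _ hy =>
      obtain ⟨r, hr, z, hz, he⟩ := hy
      obtain ⟨⟨c, t⟩, hct⟩ := IsLocalization.surj p.asIdeal.primeCompl a
      refine ⟨t * r, fun h => (p.2.mem_or_mem h).elim t.2 hr, c • z, Submodule.smul_mem _ _ hz, ?_⟩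
      rw [map_smul, ← he, ← algebraMap_smul Ap ((t : A) * r), ← algebraMap_smul Ap c,
        ← algebraMap_smul Ap r, smul_smul, smul_smul, map_mul, ← hct]
      congr 1
      ring
  obtain ⟨f, hf, hfp⟩ : ∃ f ∈ Module.annihilator A C, f ∉ p.asIdeal := by
    rw [Module.mem_support_iff_of_finite] at hp
    exact Set.not_subset.mp hp
  refine ⟨f, hfp, Fintype.linearCombination (Localization.Away f)
    (fun i => LocalizedModule.mkLinearMap (.powers f) M (m i)), fun y => ?_⟩
  obtain ⟨⟨x, ⟨_, k, rfl⟩⟩, hx⟩ := IsLocalizedModule.surj (.powers f) (LocalizedModule.mkLinearMap (.powers f) M) y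
  have h0 : f • x ∈ LinearMap.range π₀ := (Submodule.Quotient.mk_eq_zero _).mp
    (Module.mem_annihilator.mp hf (Submodule.Quotient.mk x))
  obtain ⟨c, hc⟩ := h0
  have hu : IsUnit (algebraMap A (Localization.Away f) f) := IsLocalization.Away.algebraMap_isUnit f
  refine ⟨fun i => (↑(hu.pow (k + 1)).unit⁻¹ : Localization.Away f) * algebraMap A _ (c i), ?_⟩
  rw [Fintype.linearCombination_apply]
  simp only [mul_smul, algebraMap_smul, ← map_smul, ← Finset.smul_sum, ← map_sum]
  have hc' : ∑ i : Fin (finrank Ap Mp), c i • m i = f • x := (Fintype.linearCombination_apply A m c).symm.trans hc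
  refine (congrArg (fun z => (↑(hu.pow (k + 1)).unit⁻¹ : Localization.Away f) •
    LocalizedModule.mkLinearMap (Submonoid.powers f) M z) hc').trans ?_
  rw [map_smul,
    ← hx, ← algebraMap_smul (Localization.Away f) f, Submonoid.smul_def,
    ← algebraMap_smul (Localization.Away f) (f ^ k), smul_smul, smul_smul, map_pow, mul_assoc,
    ← pow_succ']
  rw [IsUnit.val_inv_mul, one_smul]

theorem rankAtStalk_le_of_surjective {n : ℕ} (π : (Fin n → A) →ₗ[A] M) (hπ : Function.Surjective π)
    (p : PrimeSpectrum A) : rankAtStalk M p ≤ n := by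
  haveI : Nontrivial A :=
    ⟨⟨0, 1, fun h => p.2.ne_top ((Ideal.eq_top_iff_one _).mpr (h ▸ p.asIdeal.zero_mem))⟩⟩
  rw [rankAtStalk_eq_finrank_tensorProduct]
  refine (LinearMap.finrank_le_finrank_of_surjective (f := π.baseChange (Localization.AtPrime p.asIdeal))
    (LinearMap.baseChange_surjective _ hπ)).trans ?_
  rw [finrank_baseChange, Module.finrank_fin_fun]

theorem bijective_of_surjective {n : ℕ} (π : (Fin n → A) →ₗ[A] M) (hπ : Function.Surjective π)
    (hr : ∀ p : PrimeSpectrum A, rankAtStalk M p = n) : Function.Bijective π := by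
  refine bijective_of_localized_maximal π fun P hP => ?_
  have hs : Function.Surjective (LocalizedModule.map P.primeCompl π) :=
    LocalizedModule.map_surjective _ _ hπ
  haveI : Module.Finite (Localization P.primeCompl) (LocalizedModule P.primeCompl M) :=
    Module.Finite.of_isLocalizedModule P.primeCompl (LocalizedModule.mkLinearMap P.primeCompl M)
  haveI : Module.Flat (Localization P.primeCompl) (LocalizedModule P.primeCompl M) :=
    Module.Flat.isBaseChange A _ M _ (IsLocalizedModule.isBaseChange P.primeCompl _
      (LocalizedModule.mkLinearMap P.primeCompl M))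
  haveI : IsLocalRing (Localization P.primeCompl) := inferInstanceAs (IsLocalRing (Localization.AtPrime P))
  haveI : Module.Free (Localization P.primeCompl) (LocalizedModule P.primeCompl M) :=
    Module.free_of_flat_of_isLocalRing
  have h1 : finrank (Localization P.primeCompl) (LocalizedModule P.primeCompl M) =
      finrank (Localization P.primeCompl) (LocalizedModule P.primeCompl (Fin n → A)) := by
    haveI : Module.Finite (Localization P.primeCompl) (LocalizedModule P.primeCompl (Fin n → A)) :=
      Module.Finite.of_isLocalizedModule P.primeCompl (LocalizedModule.mkLinearMap P.primeCompl (Fin n → A))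
    haveI : Nontrivial A :=
      ⟨⟨0, 1, fun h => hP.ne_top ((Ideal.eq_top_iff_one _).mpr (h ▸ P.zero_mem))⟩⟩
    have h2 := congrFun (rankAtStalk_eq_finrank_of_free (R := A) (M := Fin n → A)) ⟨P, hP.isPrime⟩
    simp only [Pi.natCast_apply, Nat.cast_id, Module.finrank_fin_fun] at h2
    exact (hr ⟨P, hP.isPrime⟩).trans h2.symm
  haveI : Module.Free (Localization P.primeCompl) (LocalizedModule P.primeCompl (Fin n → A)) :=
    Module.Free.of_equiv (LocalizedModule.equivTensorProduct P.primeCompl (Fin n → A)).symm
  haveI : Module.Finite (Localization P.primeCompl) (LocalizedModule P.primeCompl (Fin n → A)) :=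
    Module.Finite.of_isLocalizedModule P.primeCompl (LocalizedModule.mkLinearMap P.primeCompl (Fin n → A))
  exact OrzechProperty.bijective_of_surjective_of_finrank_le _ hs h1.ge

omit [Module.Flat A M] in
theorem finitePresentation_of_cover
    (h : ∀ p : PrimeSpectrum A, ∃ f : A, f ∉ p.asIdeal ∧
      Module.FinitePresentation (Localization.Away f) (LocalizedModule (.powers f) M)) :
    Module.FinitePresentation A M := by
  choose f hf hfp using h
  refine Module.FinitePresentation.of_localizationSpan (Set.range f) ?_ ?_
  · by_contra hne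
    obtain ⟨m, hm, hle⟩ := Ideal.exists_le_maximal _ hne
    exact hf ⟨m, hm.isPrime⟩ (hle (Ideal.subset_span ⟨⟨m, hm.isPrime⟩, rfl⟩))
  · rintro ⟨_, p, rfl⟩
    exact hfp p

instance flat_localized (f : A) :
    Module.Flat (Localization.Away f) (LocalizedModule (.powers f) M) :=
  Module.Flat.isBaseChange A _ M _ (IsLocalizedModule.isBaseChange (.powers f) _
    (LocalizedModule.mkLinearMap (.powers f) M))

instance finite_localized (f : A) :
    Module.Finite (Localization.Away f) (LocalizedModule (.powers f) M) :=
  Module.Finite.of_isLocalizedModule (.powers f) (LocalizedModule.mkLinearMap (.powers f) M)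

lemma rankAtStalk_localized (f : A) (q : PrimeSpectrum (Localization.Away f)) :
    rankAtStalk (LocalizedModule (.powers f) M) q =
      rankAtStalk M (PrimeSpectrum.comap (algebraMap A (Localization.Away f)) q) :=
  rankAtStalk_isBaseChange (IsLocalizedModule.isBaseChange (.powers f) _
    (LocalizedModule.mkLinearMap (.powers f) M)) q

theorem finitePresentation_of_rank_eq {n : ℕ} (h : ∀ p : PrimeSpectrum A, rankAtStalk M p = n) :
    Module.FinitePresentation A M := by
  refine finitePresentation_of_cover fun p => ?_
  obtain ⟨g, hg, π, hπ⟩ := exists_surjective (M := M) p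
  refine ⟨g, hg, Module.FinitePresentation.of_equiv
    (LinearEquiv.ofBijective π (bijective_of_surjective π hπ fun q => ?_))⟩
  rw [rankAtStalk_localized, h, h]

/-- A finite flat module with locally constant rank is projective. -/
theorem projective_of_isLocallyConstant (h : IsLocallyConstant (rankAtStalk (R := A) M)) :
    Module.Projective A M := by
  haveI : Module.FinitePresentation A M := by
    refine finitePresentation_of_cover fun p => ?_
    obtain ⟨_, ⟨g, rfl⟩, hpg, hg⟩ := PrimeSpectrum.isTopologicalBasis_basic_opens.exists_subset_of_mem_open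
      (show p ∈ {q | rankAtStalk M q = rankAtStalk M p} from rfl) (h.isOpen_fiber _)
    refine ⟨g, hpg, finitePresentation_of_rank_eq (n := rankAtStalk M p) fun q => ?_⟩
    rw [rankAtStalk_localized]
    refine hg ?_
    exact (PrimeSpectrum.localization_away_comap_range (Localization.Away g) g).le ⟨q, rfl⟩
  exact Module.Flat.projective_of_finitePresentation

end Groth.Agent.Lib.FlatFinite
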